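import Mathlib

/-! Birkhoff factorization of invertible Laurent polynomial matrices. -/

set_option autoImplicit false

universe u

open LaurentPolynomial Matrix

noncomputable section

namespace Groth.Agent.Birkhoff

variable {k : Type u} [Field k] {m : Type*} [Fintype m] [DecidableEq m]

/-- `p(T⁻¹)`. -/
def low : Polynomial k →+* LaurentPolynomial k :=
  (LaurentPolynomial.invert (R := k)).toAlgHom.toRingHom.comp Polynomial.toLaurent

lemma low_apply (p : Polynomial k) : low p = LaurentPolynomial.invert (Polynomial.toLaurent p) := rfl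

lemma low_C (a : k) : low (Polynomial.C a) = Polynomial.toLaurent (Polynomial.C a) := by
  rw [low_apply, Polynomial.toLaurent_C, invert_C]

lemma low_X : low (Polynomial.X : Polynomial k) = T (-1) := by
  rw [low_apply, Polynomial.toLaurent_X, invert_T]

lemma isUnit_of_coeff_zero {p : Polynomial k} (h0 : p.coeff 0 ≠ 0) (h : IsUnit (Polynomial.toLaurent p)) :
    IsUnit p := by
  obtain ⟨g, hg⟩ := h.exists_right_inv
  obtain ⟨N, g', hg'⟩ := LaurentPolynomial.exists_T_pow g
  have : p * g' = Polynomial.X ^ N := Polynomial.toLaurent_injective <| by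
    rw [map_mul, hg', ← mul_assoc, hg, one_mul, Polynomial.toLaurent_X_pow]
  obtain ⟨i, -, hi⟩ := (dvd_prime_pow Polynomial.prime_X N).1 (Dvd.intro g' this)
  obtain ⟨u, hu⟩ := hi.symm
  rcases i with - | i
  · exact ⟨u, by rw [← hu, pow_zero, one_mul]⟩
  · exact absurd (Polynomial.X_dvd_iff.1 (hu ▸ (dvd_pow_self _ (Nat.succ_ne_zero i)).mul_right _)) h0

lemma unit_coeff_zero (R : Matrix m m (Polynomial k)) (hR : IsUnit (Polynomial.toLaurent R.det))
    (h0 : R.det.coeff 0 ≠ 0) : IsUnit R :=
  (Matrix.isUnit_iff_isUnit_det R).2 (isUnit_of_coeff_zero h0 hR)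

lemma exists_null_row (R : Matrix m m (Polynomial k)) (h : R.det.coeff 0 = 0) (d : m → ℤ) :
    ∃ (i : m) (w : m → k), w i = 1 ∧ (∀ j, w j ≠ 0 → d j ≤ d i) ∧
      ∀ l, (∑ j, Polynomial.C (w j) * R j l).coeff 0 = 0 := by
  classical
  have h' : (R.map (Polynomial.coeff · 0)).det = 0 := by
    rw [← h, Polynomial.coeff_zero_eq_eval_zero, ← Polynomial.coe_evalRingHom, RingHom.map_det]
    congr 1
    ext a b
    simp [Polynomial.coeff_zero_eq_eval_zero]
  obtain ⟨v, hv0, hv⟩ := Matrix.exists_vecMul_eq_zero_iff.2 h'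
  obtain ⟨i, hi, himax⟩ := Finset.exists_max_image (Finset.univ.filter fun j => v j ≠ 0) d
    (by obtain ⟨j, hj⟩ := Function.ne_iff.1 hv0; exact ⟨j, by simpa using hj⟩)
  have hi' : v i ≠ 0 := by simpa using hi
  refine ⟨i, fun j => (v i)⁻¹ * v j, inv_mul_cancel₀ hi', fun j hj => himax j (by simpa using right_ne_zero_of_mul hj),
    fun l => ?_⟩
  have := congrFun hv l
  simp only [Matrix.vecMul, dotProduct, Matrix.map_apply, Pi.zero_apply] at this
  simp only [Polynomial.finset_sum_coeff, Polynomial.coeff_C_mul, mul_assoc, ← Finset.mul_sum, this, mul_zero]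

lemma det_updateRow_one {A : Type*} [CommRing A] (i : m) (v : m → A) :
    ((1 : Matrix m m A).updateRow i v).det = v i := by
  conv_lhs => rw [show v = ∑ j, v j • (1 : Matrix m m A) j from funext fun l => by
    simp [Finset.sum_apply, Matrix.one_apply]]
  rw [Matrix.det_updateRow_sum, Matrix.det_one, smul_eq_mul, mul_one]

/-- One reduction step. -/
lemma step (R : Matrix m m (Polynomial k)) (h : R.det.coeff 0 = 0) (d : m → ℤ) :
    ∃ (F R' : Matrix m m (Polynomial k)) (d' : m → ℤ), IsUnit F ∧ R.det = Polynomial.X * R'.det ∧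
      diagonal (fun i => (T (d i) : LaurentPolynomial k)) * R.map low =
        F.map Polynomial.toLaurent * diagonal (fun i => T (d' i)) * R'.map low := by
  classical
  obtain ⟨i, w, hwi, hw, hl⟩ := exists_null_row R h d
  choose r hr using fun l => Polynomial.X_dvd_iff.2 (hl l)
  have hdet : R.det = (R.updateRow i ((Polynomial.X : Polynomial k) • r)).det := by
    rw [show (Polynomial.X : Polynomial k) • r = ∑ j, Polynomial.C (w j) • R j from funext fun l => by
      simp [Finset.sum_apply, ← hr l], Matrix.det_updateRow_sum, hwi, map_one, one_smul]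
  have hr' : ∀ l, low (R i l) = T (-1) * low (r l) - ∑ j ∈ Finset.univ.erase i, low (Polynomial.C (w j)) * low (R j l) := by
    intro l
    rw [← low_X, ← map_mul, ← hr l, map_sum, ← Finset.add_sum_erase _ _ (Finset.mem_univ i), hwi, map_one, one_mul,
      eq_sub_iff_add_eq]
    simp only [map_mul]
  let F : Matrix m m (Polynomial k) := (1 : Matrix m m (Polynomial k)).updateRow i
    (fun j => if j = i then 1 else -Polynomial.C (w j) * Polynomial.X ^ (d i - d j).toNat)
  refine ⟨F, R.updateRow i r, Function.update d i (d i - 1), ?_, ?_, ?_⟩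
  · refine (Matrix.isUnit_iff_isUnit_det F).2 ?_
    simp [F, det_updateRow_one]
  · rw [hdet, Matrix.det_updateRow_smul]
  · refine Matrix.ext fun a b => ?_
    rw [Matrix.mul_assoc, Matrix.diagonal_mul, Matrix.mul_apply]
    simp only [Matrix.diagonal_mul, Matrix.map_apply]
    rcases eq_or_ne a i with rfl | ha
    · have hterm : ∀ j ∈ Finset.univ.erase a, Polynomial.toLaurent (F a j) *
          (T (Function.update d a (d a - 1) j) * low (R.updateRow a r j b)) =
          -(T (d a) * (low (Polynomial.C (w j)) * low (R j b))) := by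
        intro j hj
        have hja := Finset.ne_of_mem_erase hj
        rw [Function.update_of_ne hja, Matrix.updateRow_ne hja]
        simp only [F, Matrix.updateRow_self, if_neg hja]
        by_cases hwj : w j = 0
        · simp [hwj]
        · rw [map_mul, map_neg, Polynomial.toLaurent_X_pow, low_C,
            show (((d a - d j).toNat : ℕ) : ℤ) = d a - d j from Int.toNat_of_nonneg (sub_nonneg.2 (hw j hwj)),
            show T (d a) = (T (d a - d j) * T (d j) : LaurentPolynomial k) from by rw [← T_add, sub_add_cancel]]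
          ring
      rw [← Finset.add_sum_erase _ _ (Finset.mem_univ a), Finset.sum_congr rfl hterm, Finset.sum_neg_distrib,
        ← Finset.mul_sum, Function.update_self, Matrix.updateRow_self, hr', sub_eq_add_neg (d a) 1, T_add]
      simp only [F, Matrix.updateRow_self, if_pos, map_one, one_mul]
      ring
    · rw [Finset.sum_eq_single a]
      · simp [F, Matrix.updateRow_ne ha, Function.update_of_ne ha]
      · intro j _ hj
        simp [F, Matrix.updateRow_ne ha, Matrix.one_apply_ne (Ne.symm hj)]
      · simp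

lemma reduce : ∀ (N : ℕ) (R : Matrix m m (Polynomial k)) (d : m → ℤ), R.det.natDegree ≤ N →
    IsUnit (Polynomial.toLaurent R.det) →
    ∃ (P Q : Matrix m m (Polynomial k)) (d' : m → ℤ), IsUnit P ∧ IsUnit Q ∧
      diagonal (fun i => (T (d i) : LaurentPolynomial k)) * R.map low =
        P.map Polynomial.toLaurent * diagonal (fun i => T (d' i)) * Q.map low := by
  intro N
  induction N with
  | zero =>
    intro R d hN hu
    refine ⟨1, R, d, isUnit_one, unit_coeff_zero R hu fun h0 => ?_, by
      rw [Matrix.map_one _ (map_zero _) (map_one _), Matrix.one_mul]⟩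
    rw [Polynomial.eq_C_of_natDegree_le_zero hN, h0, map_zero, map_zero] at hu
    exact not_isUnit_zero hu
  | succ N ih =>
    intro R d hN hu
    by_cases h0 : R.det.coeff 0 = 0
    · obtain ⟨F, R', d', hF, hdet, heq⟩ := step R h0 d
      rw [hdet, map_mul] at hu
      have hR' : R'.det ≠ 0 := fun h => by simp [h] at hu
      rw [hdet, Polynomial.natDegree_X_mul hR'] at hN
      obtain ⟨P, Q, d'', hP, hQ, he⟩ := ih R' d' (by omega) (isUnit_of_mul_isUnit_right hu)
      exact ⟨F * P, Q, d'', hF.mul hP, hQ, by
        rw [heq, Matrix.mul_assoc, he, Matrix.map_mul, ← Matrix.mul_assoc, ← Matrix.mul_assoc]⟩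
    · exact ⟨1, R, d, isUnit_one, unit_coeff_zero R hu h0, by
        rw [Matrix.map_one _ (map_zero _) (map_one _), Matrix.one_mul]⟩

lemma exists_start (A : Matrix m m (LaurentPolynomial k)) :
    ∃ (N : ℤ) (R : Matrix m m (Polynomial k)), diagonal (fun _ => T N) * R.map low = A := by
  classical
  choose e f hf using fun x : m × m => LaurentPolynomial.exists_T_pow (LaurentPolynomial.invert (A x.1 x.2))
  let M := ∑ x, e x
  refine ⟨(M : ℤ), Matrix.of fun i j => f (i, j) * Polynomial.X ^ (M - e (i, j)), ?_⟩
  ext i j : 1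
  have hle : e (i, j) ≤ M := Finset.single_le_sum (fun _ _ => Nat.zero_le _) (Finset.mem_univ _)
  have h1 : low (f (i, j) * Polynomial.X ^ (M - e (i, j))) = A i j * T (-(M : ℤ)) := by
    rw [low_apply, map_mul, hf, Polynomial.toLaurent_X_pow, mul_T_assoc, map_mul, invert_T,
      LaurentPolynomial.involutive_invert]
    congr 2
    push_cast [hle]
    ring
  rw [Matrix.diagonal_mul, Matrix.map_apply, Matrix.of_apply, h1, T_mul, mul_T_assoc, neg_add_cancel, T_zero, mul_one]

theorem birkhoff (n : ℕ) (A : Matrix (Fin n) (Fin n) (LaurentPolynomial k)) (hA : IsUnit A) :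
    ∃ (P Q : Matrix (Fin n) (Fin n) (Polynomial k)) (d : Fin n → ℤ),
      IsUnit P ∧ IsUnit Q ∧ Antitone d ∧
        A = P.map Polynomial.toLaurent * Matrix.diagonal (fun i => LaurentPolynomial.T (d i)) *
          (Q.map Polynomial.toLaurent).map LaurentPolynomial.invert := by
  obtain ⟨N, R, hR⟩ := exists_start A
  have hu : IsUnit (Polynomial.toLaurent R.det) := by
    have h : IsUnit A.det := (Matrix.isUnit_iff_isUnit_det A).1 hA
    rw [← hR, Matrix.det_mul, show (R.map low).det = low R.det from ((low (k := k)).map_det R).symm] at h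
    have h2 := (isUnit_of_mul_isUnit_right h).map (LaurentPolynomial.invert (R := k))
    rwa [low_apply, LaurentPolynomial.involutive_invert] at h2
  obtain ⟨P, Q, d, hP, hQ, he⟩ := reduce _ R (fun _ => N) le_rfl hu
  let s : Equiv.Perm (Fin n) := Tuple.sort (fun i => -d i)
  refine ⟨P.submatrix id s, Q.submatrix s id, d ∘ s, ?_, ?_, fun a b hab => ?_, ?_⟩
  · rw [Matrix.isUnit_iff_isUnit_det, Matrix.det_permute']
    exact ((Equiv.Perm.sign s).isUnit.map (Int.castRingHom _)).mul ((Matrix.isUnit_iff_isUnit_det P).1 hP)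
  · rw [Matrix.isUnit_iff_isUnit_det, Matrix.det_permute]
    exact ((Equiv.Perm.sign s).isUnit.map (Int.castRingHom _)).mul ((Matrix.isUnit_iff_isUnit_det Q).1 hQ)
  · simpa using Tuple.monotone_sort (fun i => -d i) hab
  · rw [← hR, he]
    refine Matrix.ext fun i j => ?_
    rw [Matrix.mul_apply, Matrix.mul_apply]
    simp only [Matrix.mul_diagonal, Matrix.map_apply, Matrix.submatrix_apply, id_eq,
      Function.comp_apply, low_apply]
    exact ((Equiv.sum_comp s (fun l => Polynomial.toLaurent (P i l) * T (d l) *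
      LaurentPolynomial.invert (Polynomial.toLaurent (Q l j))))).symm

end Groth.Agent.Birkhoff
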